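import Groth.Prelude.Def_ProCons
import Mathlib.AlgebraicGeometry.Morphisms.FinitePresentation

set_option autoImplicit false

universe u

open AlgebraicGeometry CategoryTheory Topology

namespace GrothLib.ProConsPre

theorem isLocallyConstructible_preimage {X Y : Scheme.{u}} (f : X ⟶ Y) {s : Set Y}
    (hs : IsLocallyConstructible s) : IsLocallyConstructible (f ⁻¹' s) := by
  intro x
  obtain ⟨U, hxU, hU, H⟩ := hs (f x)
  refine ⟨f ⁻¹' U, f.continuous.continuousAt.preimage_mem_nhds hxU, hU.preimage f.continuous, ?_⟩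
  have h := (f ∣_ ⟨U, hU⟩).isConstructible_preimage (s := (Subtype.val ⁻¹' s : Set U)) H
  rw [morphismRestrict_base] at h
  exact h

theorem preimage_restrict {X Y : Scheme.{u}} (f : X ⟶ Y) {U : Set Y} (hU : IsOpen U) {T : Set U}
    (hT : IsLocallyConstructible T) :
    IsLocallyConstructible (Set.restrictPreimage U f.base ⁻¹' T) := by
  have h := isLocallyConstructible_preimage (f ∣_ ⟨U, hU⟩) (s := T) hT
  rw [morphismRestrict_base] at h
  exact h

theorem pro {X Y : Scheme.{u}} (f : X ⟶ Y) {T : Set Y} (hT : ProCons.IsProConstructible T) :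
    ProCons.IsProConstructible (f.base ⁻¹' T) := fun x => by
  obtain ⟨U, hU, hxU, S, hS, hTS⟩ := hT (f.base x)
  refine ⟨f.base ⁻¹' U, hU.preimage f.base.hom.continuous, hxU,
    Set.preimage (Set.restrictPreimage U f.base) '' S, ?_, ?_⟩
  · rintro _ ⟨A, hA, rfl⟩
    exact preimage_restrict f hU (hS A hA)
  · rw [Set.sInter_image, ← Set.preimage_iInter₂, ← Set.sInter_eq_biInter, ← hTS]
    rfl

theorem ind {X Y : Scheme.{u}} (f : X ⟶ Y) {T : Set Y} (hT : ProCons.IsIndConstructible T) :
    ProCons.IsIndConstructible (f.base ⁻¹' T) := fun x => by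
  obtain ⟨U, hU, hxU, S, hS, hTS⟩ := hT (f.base x)
  refine ⟨f.base ⁻¹' U, hU.preimage f.base.hom.continuous, hxU,
    Set.preimage (Set.restrictPreimage U f.base) '' S, ?_, ?_⟩
  · rintro _ ⟨A, hA, rfl⟩
    exact preimage_restrict f hU (hS A hA)
  · rw [Set.sUnion_image, ← Set.preimage_iUnion₂, ← Set.sUnion_eq_biUnion, ← hTS]
    rfl

end GrothLib.ProConsPre
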